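import Groth.Agent.Lib.UnivOpenFin4.Test
import Groth.Agent.Lib.WeightDescend4.Classifier
import Groth.Agent.Lib.LimH13.Constr
import Groth.Agent.Lib.Descend.QuasiFinite
import Groth.Agent.Lib.Descend.Stage
import Groth.Agent.Lib.Weight4.LC

/-!
# Universal openness of quasi-finite morphisms descends along limits
-/

set_option autoImplicit false
set_option backward.isDefEq.respectTransparency.types false
universe u

open AlgebraicGeometry CategoryTheory Limits Groth.Agent.Weight TopologicalSpace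

namespace Groth.Agent.UnivOpenFin4

open Groth.Agent.Descend

variable {I : Type u} [SmallCategory I] [IsCofiltered I]

section

variable {S X : Scheme.{u}} {D : I ⥤ Scheme.{u}} {t : D ⟶ (Functor.const I).obj S} {f : X ⟶ S}

theorem universallyOpen_mono {i j : I} (a : j ⟶ i) (h : UniversallyOpen (pullback.snd f (t.app i))) :
    UniversallyOpen (pullback.snd f (t.app j)) :=
  MorphismProperty.of_isPullback (pbMap_isPullback D t f a) h

theorem exists_forall {L : Type*} [Finite L] {Q : L → I → Prop} (h : ∀ l, ∃ j, Q l j)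
    (hmono : ∀ l {i j : I} (_ : j ⟶ i), Q l i → Q l j) : ∃ j, ∀ l, Q l j := by
  classical
  letI := Fintype.ofFinite L
  choose j hj using h
  obtain ⟨k, hk⟩ := IsCofiltered.inf_objs_exists (Finset.univ.image j)
  exact ⟨k, fun l => hmono l (hk (Finset.mem_image_of_mem j (Finset.mem_univ l))).some (hj l)⟩

variable [∀ i, IsAffineHom (t.app i)] {c : Cone D} {q : c.pt ⟶ S}

/-- Finite morphisms over affine bases. -/
theorem exists_finite_affine [IsAffine S] [IsFinite f] [LocallyOfFinitePresentation f] (hc : IsLimit c)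
    (hq : ∀ j, c.π.app j ≫ t.app j = q) (h : UniversallyOpen (pullback.snd f q)) :
    ∃ j, UniversallyOpen (pullback.snd f (t.app j)) := by
  obtain ⟨W, w, E, hW, hE, hlim, htest⟩ := exists_openness_test f
  haveI := hW
  obtain ⟨i⟩ := IsCofiltered.nonempty (C := I)
  haveI : IsAffine (((Functor.const I).obj S).obj i) := ‹IsAffine S›
  haveI : ∀ k, IsAffine (D.obj k) := fun k => by
    haveI : IsAffine (((Functor.const I).obj S).obj k) := ‹IsAffine S›
    exact isAffine_of_isAffineHom (t.app k)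
  have hwl := pbIsLimit D t w c hq (IsPullback.of_hasPullback w q) hc
  haveI : CompactSpace ↥((pbDiagram D t w).obj i) := pb_compactSpace D t w i
  let cw := pbCone D t w c hq (IsPullback.of_hasPullback w q)
  let Zi : Set ↥((pbDiagram D t w).obj i) := pullback.fst w (t.app i) ⁻¹' E
  have hZi : Topology.IsConstructible Zi := (pullback.fst w (t.app i)).isConstructible_preimage hE
  obtain ⟨j, a, hj⟩ := LimH13.exists_isOpen_preimage hwl i Zi hZi (by
    have e : (cw.π.app i) ⁻¹' Zi = pullback.fst w q ⁻¹' E := by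
      ext z
      show (cw.π.app i ≫ pullback.fst w (t.app i)) z ∈ E ↔ _
      rw [pbCone_fst]
      rfl
    show IsOpen ((cw.π.app i) ⁻¹' Zi)
    rw [e]
    exact hlim q h)
  refine ⟨j, htest (t.app j) ?_⟩
  have e : (pbDiagram D t w).map a ⁻¹' Zi = pullback.fst w (t.app j) ⁻¹' E := by
    ext z
    show ((pbDiagram D t w).map a ≫ pullback.fst w (t.app i)) z ∈ E ↔ _
    rw [pbMap_fst]
    rfl
  rw [e] at hj
  exact hj

/-- Finite morphisms over compact bases. -/
theorem exists_finite [CompactSpace S] [IsFinite f] [LocallyOfFinitePresentation f] (hc : IsLimit c)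
    (hq : ∀ j, c.π.app j ≫ t.app j = q) (h : UniversallyOpen (pullback.snd f q)) :
    ∃ j, UniversallyOpen (pullback.snd f (t.app j)) := by
  obtain ⟨s, hs⟩ := isCompact_univ.elim_finite_subcover (fun V : S.affineOpens => (V.1 : Set S))
    (fun V => V.1.2) (fun x _ => by
      obtain ⟨V, hV, hx, -⟩ := exists_isAffineOpen_mem_and_subset (U := ⊤) (x := x) (Set.mem_univ x)
      exact Set.mem_iUnion.2 ⟨⟨V, hV⟩, hx⟩)
  obtain ⟨j, hj⟩ := exists_forall
    (Q := fun (V : s) j => UniversallyOpen (pullback.snd (pullback.snd f V.1.1.ι) (pullback.fst V.1.1.ι (t.app j))))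
    (fun V => by
      haveI : IsAffine V.1.1.toScheme := V.1.2
      haveI : IsFinite (pullback.snd f V.1.1.ι) := MorphismProperty.pullback_snd _ _ ‹_›
      haveI : LocallyOfFinitePresentation (pullback.snd f V.1.1.ι) := MorphismProperty.pullback_snd _ _ ‹_›
      refine exists_finite_affine (S := V.1.1.toScheme) (f := pullback.snd f V.1.1.ι) (t := pbFst D t V.1.1.ι)
        (pbIsLimit D t V.1.1.ι c hq (IsPullback.of_hasPullback V.1.1.ι q) hc)
        (fun j => pbCone_fst D t V.1.1.ι c hq (IsPullback.of_hasPullback V.1.1.ι q) j) ?_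
      have H := (IsPullback.of_hasPullback (pullback.snd f V.1.1.ι) (pullback.fst V.1.1.ι q)).paste_horiz
        (IsPullback.of_hasPullback f V.1.1.ι)
      rw [pullback.condition] at H
      exact universallyOpen_of_factor _ q H h)
    (fun V i j a h => universallyOpen_mono (t := pbFst D t V.1.1.ι) a h)
  refine ⟨j, IsZariskiLocalAtTarget.of_iSup_eq_top (fun V : s => t.app j ⁻¹ᵁ V.1.1) ?_ fun V => ?_⟩
  · rw [eq_top_iff]
    intro x _
    obtain ⟨V, hV, hxV⟩ := Set.mem_iUnion₂.1 (hs (Set.mem_univ (t.app j x)))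
    exact Opens.mem_iSup.2 ⟨⟨V, hV⟩, hxV⟩
  · let O := t.app j ⁻¹ᵁ V.1.1
    let l : O.toScheme ⟶ pullback V.1.1.ι (t.app j) :=
      pullback.lift (t.app j ∣_ V.1.1) O.ι (morphismRestrict_ι _ _)
    have H := (isPullback_morphismRestrict (pullback.snd f (t.app j)) O).flip.paste_horiz (IsPullback.of_hasPullback f (t.app j))
    rw [show O.ι ≫ t.app j = (l ≫ pullback.fst V.1.1.ι (t.app j)) ≫ V.1.1.ι by
      rw [pullback.lift_fst]; exact (morphismRestrict_ι _ _).symm] at H
    have H' := IsPullback.of_right (by rw [pullback.lift_fst]; exact H) (pullback.lift_snd _ _ _)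
      (IsPullback.of_hasPullback f V.1.1.ι) (h₁₁ := pullback.lift _ _ (H.w.trans (Category.assoc _ _ _).symm))
    exact universallyOpen_of_factor l _ H' (hj V)

/-- Quasi-finite morphisms between affine schemes. -/
theorem exists_affine [IsAffine S] [IsAffine X] [LocallyQuasiFinite f] [LocallyOfFinitePresentation f]
    (hc : IsLimit c) (hq : ∀ j, c.π.app j ≫ t.app j = q) (h : UniversallyOpen (pullback.snd f q)) :
    ∃ j, UniversallyOpen (pullback.snd f (t.app j)) := by
  obtain ⟨T, qT, P, qX, pT, H0, U, hTc, hTq, hcl⟩ := WeightDescend4.exists_classifier f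
  haveI := hcl.finite
  haveI : LocallyOfFinitePresentation pT := MorphismProperty.of_isPullback H0 ‹LocallyOfFinitePresentation f›
  let π := U.ι ≫ pT
  haveI : LocallyOfFinitePresentation π := inferInstanceAs (LocallyOfFinitePresentation (U.ι ≫ pT))
  haveI : IsFinite π := hcl.finite
  let hTl := IsPullback.of_hasPullback qT q
  obtain ⟨j, hj⟩ := exists_finite (f := π) (t := pbFst D t qT) (pbIsLimit D t qT c hq hTl hc)
    (fun j => pbCone_fst D t qT c hq hTl j) (by
      let H1 := IsPullback.of_hasPullback (pullback.snd f q) (pullback.snd qT q)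
      let HH := H1.paste_horiz (IsPullback.of_hasPullback f q)
      let b := bcMap H0 HH (pullback.fst qT q) hTl.w
      have hsq := (isPullback_morphismRestrict b U).paste_vert (isPullback_bcMap H0 HH (pullback.fst qT q) hTl.w)
      haveI := h
      have key : UniversallyOpen (pullback.snd (U.ι ≫ pT) (pullback.fst qT q)) := by
        rw [← hsq.isoPullback_inv_snd]
        infer_instance
      exact key)
  refine ⟨j, ?_⟩
  let tj := t.app j
  let fj := pullback.snd f tj
  haveI : LocallyQuasiFinite fj := MorphismProperty.pullback_snd _ _ ‹_›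
  haveI : LocallyOfFiniteType fj := MorphismProperty.pullback_snd _ _ inferInstance
  refine (universallyOpen_iff fj).2 ?_
  intro X' Y' i₁ i₂ f' hsq'
  have hsq : IsPullback i₁ f' fj i₂ := hsq'.flip
  haveI : LocallyQuasiFinite f' := MorphismProperty.of_isPullback hsq ‹LocallyQuasiFinite fj›
  haveI : LocallyOfFiniteType f' := MorphismProperty.of_isPullback hsq ‹LocallyOfFiniteType fj›
  intro O hO
  refine isOpen_iff_forall_mem_open.2 ?_
  rintro _ ⟨x, hx, rfl⟩
  obtain ⟨V, gV, W, v, hgV, hfin, hv, ⟨z, hzW, hzv, hzx⟩, -, -⟩ := exists_piece f' x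
  haveI := hgV
  haveI := hfin
  let HV := (IsPullback.of_hasPullback f' gV).paste_horiz (hsq.paste_horiz (IsPullback.of_hasPullback f tj))
  obtain ⟨N, k, m, hm, hk, ⟨u, hu⟩, heq⟩ := hcl.univ (gV ≫ i₂ ≫ tj) HV W v
  haveI := hk
  let HN := IsPullback.of_hasPullback f (k ≫ gV ≫ i₂ ≫ tj)
  let b₁ := bcMap HV HN k rfl
  have hsqN := (isPullback_morphismRestrict (bcMap H0 HN m hm) U).paste_vert (isPullback_bcMap H0 HN m hm)
  let m' : N ⟶ pullback qT tj := pullback.lift m (k ≫ gV ≫ i₂) (by rw [hm]; simp only [Category.assoc])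
  have hU : UniversallyOpen ((bcMap H0 HN m hm ⁻¹ᵁ U).ι ≫ pullback.snd f (k ≫ gV ≫ i₂ ≫ tj)) := by
    refine universallyOpen_of_factor (f := π) (p := bcMap H0 HN m hm ∣_ U) m' (pullback.fst qT tj) ?_ hj
    rw [show m' ≫ pullback.fst qT tj = m from pullback.lift_fst _ _ _]
    exact hsqN
  have hU' : UniversallyOpen ((b₁ ⁻¹ᵁ W).ι ≫ pullback.snd f (k ≫ gV ≫ i₂ ≫ tj)) := by
    have gen : ∀ B, bcMap H0 HN m hm ⁻¹ᵁ U = B →
        UniversallyOpen (B.ι ≫ pullback.snd f (k ≫ gV ≫ i₂ ≫ tj)) := by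
      rintro _ rfl
      exact hU
    exact gen _ heq.symm
  haveI := hU'
  let π' := (b₁ ⁻¹ᵁ W).ι ≫ pullback.snd f (k ≫ gV ≫ i₂ ≫ tj)
  let O' : Set ↥(b₁ ⁻¹ᵁ W).toScheme := (b₁ ⁻¹ᵁ W).ι ⁻¹' (b₁ ⁻¹' (pullback.fst f' gV ⁻¹' O))
  have hO' : IsOpen O' :=
    ((hO.preimage (pullback.fst f' gV).continuous).preimage b₁.continuous).preimage (b₁ ⁻¹ᵁ W).ι.continuous
  have he : ∀ r, (k ≫ gV) (π' r) = f' (pullback.fst f' gV (b₁ ((b₁ ⁻¹ᵁ W).ι r))) := by
    intro r
    show ((b₁ ⁻¹ᵁ W).ι ≫ pullback.snd f (k ≫ gV ≫ i₂ ≫ tj) ≫ k ≫ gV) r =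
      ((b₁ ⁻¹ᵁ W).ι ≫ b₁ ≫ pullback.fst f' gV ≫ f') r
    rw [pullback.condition, reassoc_of% (bcMap_snd HV HN k rfl)]
  refine ⟨(k ≫ gV) '' (π' '' O'), ?_, isOpenMap_of_etale (k ≫ gV) _ (π'.isOpenMap _ hO'), ?_⟩
  · rintro _ ⟨_, ⟨r, hr, rfl⟩, rfl⟩
    exact ⟨_, hr, (he r).symm⟩
  · obtain ⟨r, hr1, hr2⟩ := Scheme.exists_preimage_of_isPullback (isPullback_bcMap HV HN k rfl) z u
      (show pullback.snd f' gV z = k u by rw [hzv, hu])
    have hrW : r ∈ b₁ ⁻¹ᵁ W := show b₁ r ∈ W by rw [hr1]; exact hzW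
    refine ⟨_, ⟨⟨r, hrW⟩, ?_, rfl⟩, ?_⟩
    · show pullback.fst f' gV (b₁ r) ∈ O
      rw [hr1, hzx]; exact hx
    · rw [he]
      show f' (pullback.fst f' gV (b₁ r)) = f' x
      rw [hr1, hzx]

/-- Universal openness of quasi-finite morphisms descends. -/
theorem exists_universallyOpen [CompactSpace S] [QuasiCompact f] [LocallyQuasiFinite f]
    [LocallyOfFinitePresentation f] (hc : IsLimit c) (hq : ∀ j, c.π.app j ≫ t.app j = q)
    (h : UniversallyOpen (pullback.snd f q)) : ∃ j, UniversallyOpen (pullback.snd f (t.app j)) := by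
  haveI : CompactSpace X := QuasiCompact.compactSpace_of_compactSpace f
  have hx : ∀ x : X, ∃ (V : S.Opens) (W : X.Opens), IsAffineOpen V ∧ IsAffineOpen W ∧ x ∈ W ∧ W ≤ f ⁻¹ᵁ V := by
    intro x
    obtain ⟨V, hV, hxV, -⟩ := exists_isAffineOpen_mem_and_subset (U := ⊤) (x := f x) (Set.mem_univ _)
    obtain ⟨W, hW, hxW, hle⟩ := exists_isAffineOpen_mem_and_subset (U := f ⁻¹ᵁ V) (x := x) hxV
    exact ⟨V, W, hV, hW, hxW, hle⟩
  choose V W hV hW hxW hle using hx
  obtain ⟨s, hs⟩ := isCompact_univ.elim_finite_subcover (fun x => (W x : Set X)) (fun x => (W x).2)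
    (fun x _ => Set.mem_iUnion.2 ⟨x, hxW x⟩)
  obtain ⟨j, hj⟩ := exists_forall
    (Q := fun (x : s) j => UniversallyOpen (pullback.snd (f.resLE (V x.1) (W x.1) (hle x.1)) (pullback.fst (V x.1).ι (t.app j))))
    (fun x => by
      haveI : IsAffine (V x.1).toScheme := hV x.1
      haveI : IsAffine (W x.1).toScheme := hW x.1
      haveI : LocallyQuasiFinite (f.resLE (V x.1) (W x.1) (hle x.1)) := by
        haveI : LocallyQuasiFinite (f.resLE (V x.1) (W x.1) (hle x.1) ≫ (V x.1).ι) := by
          rw [Scheme.Hom.resLE_comp_ι]; infer_instance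
        exact LocallyQuasiFinite.of_comp _ (V x.1).ι
      haveI : LocallyOfFinitePresentation (f.resLE (V x.1) (W x.1) (hle x.1)) := by
        haveI : LocallyOfFinitePresentation (f.resLE (V x.1) (W x.1) (hle x.1) ≫ (V x.1).ι) := by
          rw [Scheme.Hom.resLE_comp_ι]; infer_instance
        exact SchBasic.locallyOfFinitePresentation_of_comp _ (V x.1).ι
      refine exists_affine (S := (V x.1).toScheme) (t := pbFst D t (V x.1).ι)
        (pbIsLimit D t (V x.1).ι c hq (IsPullback.of_hasPullback (V x.1).ι q) hc)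
        (fun j => pbCone_fst D t (V x.1).ι c hq (IsPullback.of_hasPullback (V x.1).ι q) j) ?_
      have H := (IsPullback.of_hasPullback (f.resLE (V x.1) (W x.1) (hle x.1)) (pullback.fst (V x.1).ι q)).paste_vert
        (IsPullback.of_hasPullback (V x.1).ι q)
      rw [Scheme.Hom.resLE_comp_ι] at H
      let p := pullback.fst (f.resLE (V x.1) (W x.1) (hle x.1)) (pullback.fst (V x.1).ι q)
      let g := pullback.snd (f.resLE (V x.1) (W x.1) (hle x.1)) (pullback.fst (V x.1).ι q) ≫ pullback.snd (V x.1).ι q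
      let e := pullback.lift (p ≫ (W x.1).ι) g (by rw [Category.assoc]; exact H.w)
      have He : IsPullback p e (W x.1).ι (pullback.fst f q) :=
        IsPullback.of_bot (by rw [pullback.lift_snd]; exact H) (pullback.lift_fst _ _ _).symm (IsPullback.of_hasPullback f q)
      haveI : IsOpenImmersion e := MorphismProperty.of_isPullback He inferInstance
      haveI := h
      haveI : UniversallyOpen g := by
        rw [show g = e ≫ pullback.snd f q from (pullback.lift_snd _ _ _).symm]; infer_instance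
      exact MorphismProperty.of_postcomp @UniversallyOpen _ _ (inferInstance : IsOpenImmersion (pullback.snd (V x.1).ι q)) ‹UniversallyOpen g›)
    (fun x i j a h => universallyOpen_mono (t := pbFst D t (V x.1).ι) a h)
  refine ⟨j, IsZariskiLocalAtSource.of_iSup_eq_top (fun x : s => pullback.fst f (t.app j) ⁻¹ᵁ W x.1) ?_ fun x => ?_⟩
  · rw [eq_top_iff]
    intro z _
    obtain ⟨y, hy, hzy⟩ := Set.mem_iUnion₂.1 (hs (Set.mem_univ (pullback.fst f (t.app j) z)))
    exact Opens.mem_iSup.2 ⟨⟨y, hy⟩, hzy⟩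
  · have H := (IsPullback.of_hasPullback (f.resLE (V x.1) (W x.1) (hle x.1)) (pullback.fst (V x.1).ι (t.app j))).paste_vert
      (IsPullback.of_hasPullback (V x.1).ι (t.app j))
    rw [Scheme.Hom.resLE_comp_ι] at H
    have H' := (isPullback_morphismRestrict (pullback.fst f (t.app j)) (W x.1)).paste_vert (IsPullback.of_hasPullback f (t.app j))
    rw [← H'.isoPullback_hom_snd, ← H.isoPullback_inv_snd]
    haveI := hj x
    infer_instance

end

end Groth.Agent.UnivOpenFin4
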