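import Groth.Agent.Lib.EGA43Top.AffineOpen
import Mathlib

/-!
# Universal openness of finite morphisms through one linear form
-/

set_option autoImplicit false
set_option backward.isDefEq.respectTransparency.types false
universe u

open AlgebraicGeometry CategoryTheory Limits TensorProduct

namespace Groth.Agent.UnivOpenFin4

attribute [local instance] MvPolynomial.algebraMvPolynomial

variable {A B : Type u} [CommRing A] [CommRing B] [Algebra A B] {d : ℕ} (b : Fin d → B)

/-- If the image of the generic linear form is open, all affine base changes are open. -/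
theorem isOpenMap_baseChange (hb : Submodule.span A (Set.range b) = ⊤)
    (h : IsOpen (PrimeSpectrum.comap (MvPolynomial.map (σ := Fin d) (algebraMap A B)) ''
      (PrimeSpectrum.basicOpen (∑ i : Fin d, MvPolynomial.X i * MvPolynomial.C (b i)) : Set (PrimeSpectrum (MvPolynomial (Fin d) B)))))
    (R : Type u) [CommRing R] [Algebra A R] :
    IsOpenMap (PrimeSpectrum.comap (Algebra.TensorProduct.includeLeftRingHom : R →+* R ⊗[A] B)) := by
  classical
  rw [PrimeSpectrum.isBasis_basic_opens.isOpenMap_iff]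
  rintro _ ⟨_, ⟨g, rfl⟩, rfl⟩
  obtain ⟨r, rfl⟩ : ∃ r : Fin d → R, g = ∑ i, r i ⊗ₜ[A] b i := by
    induction g using TensorProduct.induction_on with
    | zero => exact ⟨0, by simp⟩
    | tmul x y =>
      obtain ⟨a, ha⟩ := (Submodule.mem_span_range_iff_exists_fun A).1 (hb ▸ Submodule.mem_top : y ∈ Submodule.span A (Set.range b))
      exact ⟨fun i => a i • x, by rw [← ha, TensorProduct.tmul_sum]; simp [TensorProduct.smul_tmul]⟩
    | add x y hx hy =>
      obtain ⟨r, hr⟩ := hx
      obtain ⟨r', hr'⟩ := hy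
      exact ⟨r + r', by simp [hr, hr', TensorProduct.add_tmul, Finset.sum_add_distrib]⟩
  let ψ : MvPolynomial (Fin d) A →+* R := (MvPolynomial.aeval r).toRingHom
  let Ψ : MvPolynomial (Fin d) B →+* R ⊗[A] B :=
    MvPolynomial.eval₂Hom Algebra.TensorProduct.includeRight.toRingHom fun i => r i ⊗ₜ 1
  have hΨ : Ψ (∑ i : Fin d, MvPolynomial.X i * MvPolynomial.C (b i)) = ∑ i, r i ⊗ₜ[A] b i := by
    simp [Ψ, map_sum]
  have hsq : Ψ.comp (MvPolynomial.map (algebraMap A B)) =
      (Algebra.TensorProduct.includeLeftRingHom : R →+* R ⊗[A] B).comp ψ := by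
    ext i
    · simp [Ψ, ψ, Algebra.TensorProduct.algebraMap_apply]
    · simp [Ψ, ψ]
  have H1 := isPullback_SpecMap_of_isPushout _ _ _ _
    (CommRingCat.isPushout_of_isPushout A B (MvPolynomial (Fin d) A) (MvPolynomial (Fin d) B))
  have H2 := isPullback_SpecMap_of_isPushout _ _ _ _ (CommRingCat.isPushout_tensorProduct A R B).flip
  have H : IsPullback (Spec.map (CommRingCat.ofHom Ψ))
      (Spec.map (CommRingCat.ofHom (Algebra.TensorProduct.includeLeftRingHom : R →+* R ⊗[A] B)))
      (Spec.map (CommRingCat.ofHom (MvPolynomial.map (σ := Fin d) (algebraMap A B))))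
      (Spec.map (CommRingCat.ofHom ψ)) := by
    refine IsPullback.of_right (h₁₂ := Spec.map (CommRingCat.ofHom (algebraMap B (MvPolynomial (Fin d) B))))
      (h₂₂ := Spec.map (CommRingCat.ofHom (algebraMap A (MvPolynomial (Fin d) A))))
      (v₁₃ := Spec.map (CommRingCat.ofHom (algebraMap A B))) ?_ ?_ ?_
    · rw [← Spec.map_comp, ← Spec.map_comp, ← CommRingCat.ofHom_comp, ← CommRingCat.ofHom_comp]
      convert H2 using 3 <;> ext x <;> simp [Ψ, ψ]
    · rw [← Spec.map_comp, ← Spec.map_comp, ← CommRingCat.ofHom_comp, ← CommRingCat.ofHom_comp, hsq]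
    · exact H1
  convert h.preimage (PrimeSpectrum.continuous_comap ψ) using 1
  ext p
  constructor
  · rintro ⟨q, hq, rfl⟩
    refine ⟨PrimeSpectrum.comap Ψ q, ?_, ?_⟩
    · show Ψ _ ∉ q.asIdeal
      rw [hΨ]; exact hq
    · rw [← PrimeSpectrum.comap_comp_apply, hsq, PrimeSpectrum.comap_comp_apply]
  · rintro ⟨z, hz, hzp⟩
    obtain ⟨q, hq1, hq2⟩ := Scheme.exists_preimage_of_isPullback H z p hzp
    refine ⟨q, ?_, hq2⟩
    show ∑ i, r i ⊗ₜ[A] b i ∉ q.asIdeal
    rw [← hΨ]
    intro hc
    apply hz
    rw [← hq1]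
    exact hc

/-- Universal openness from openness of one image. -/
theorem universallyOpen_of_isOpen (hb : Submodule.span A (Set.range b) = ⊤)
    (h : IsOpen (PrimeSpectrum.comap (MvPolynomial.map (σ := Fin d) (algebraMap A B)) ''
      (PrimeSpectrum.basicOpen (∑ i : Fin d, MvPolynomial.X i * MvPolynomial.C (b i)) : Set (PrimeSpectrum (MvPolynomial (Fin d) B))))) :
    UniversallyOpen (Spec.map (CommRingCat.ofHom (algebraMap A B))) := by
  refine EGA43Top.universallyOpen_of_affineSpace _ fun n => ?_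
  let σ := ULift.{u} (Fin n)
  let e := AffineSpace.SpecIso σ (CommRingCat.of A)
  have H : IsPullback
      (Spec.map (CommRingCat.ofHom (Algebra.TensorProduct.includeRight.toRingHom : B →+* MvPolynomial σ A ⊗[A] B)))
      (Spec.map (CommRingCat.ofHom (Algebra.TensorProduct.includeLeftRingHom : MvPolynomial σ A →+* MvPolynomial σ A ⊗[A] B)) ≫ e.inv)
      (Spec.map (CommRingCat.ofHom (algebraMap A B)))
      (𝔸(σ; Spec (CommRingCat.of A)) ↘ Spec (CommRingCat.of A)) :=
    (isPullback_SpecMap_of_isPushout _ _ _ _ (CommRingCat.isPushout_tensorProduct A (MvPolynomial σ A) B).flip).of_iso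
      (Iso.refl _) (Iso.refl _) e.symm (Iso.refl _) (by simp) (by simp) (by simp)
      (by simp [e, AffineSpace.SpecIso_inv_over])
  rw [← H.isoPullback_inv_snd, Scheme.Hom.comp_base, TopCat.coe_comp, Scheme.Hom.comp_base, TopCat.coe_comp]
  refine (IsOpenMap.comp ?_ ?_).comp H.isoPullback.inv.isOpenEmbedding.isOpenMap
  · exact e.inv.isOpenEmbedding.isOpenMap
  · exact isOpenMap_baseChange b hb h (MvPolynomial σ A)

/-- Universal openness gives the open image. -/
theorem isOpen_of_universallyOpen (h : UniversallyOpen (Spec.map (CommRingCat.ofHom (algebraMap A B)))) (g : MvPolynomial (Fin d) B) :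
    IsOpen (PrimeSpectrum.comap (MvPolynomial.map (σ := Fin d) (algebraMap A B)) ''
      (PrimeSpectrum.basicOpen g : Set (PrimeSpectrum (MvPolynomial (Fin d) B)))) := by
  have H1 := isPullback_SpecMap_of_isPushout _ _ _ _
    (CommRingCat.isPushout_of_isPushout A B (MvPolynomial (Fin d) A) (MvPolynomial (Fin d) B))
  haveI : UniversallyOpen (Spec.map (CommRingCat.ofHom (algebraMap (MvPolynomial (Fin d) A) (MvPolynomial (Fin d) B)))) :=
    MorphismProperty.of_isPullback H1 h
  exact (Spec.map (CommRingCat.ofHom (algebraMap (MvPolynomial (Fin d) A) (MvPolynomial (Fin d) B)))).isOpenMap _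
    (PrimeSpectrum.basicOpen g).2

end Groth.Agent.UnivOpenFin4
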