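import Groth.Agent.Lib.UnivOpenFin4.Linear

/-!
# An openness test for universal openness of base changes of a finite morphism
-/

set_option autoImplicit false
set_option backward.isDefEq.respectTransparency.types false
universe u

open AlgebraicGeometry CategoryTheory Limits TensorProduct

namespace Groth.Agent.UnivOpenFin4

attribute [local instance] MvPolynomial.algebraMvPolynomial

variable {A B : Type u} [CommRing A] [CommRing B] [Algebra A B] {d : ℕ} (b : Fin d → B)

/-- Universal openness after a ring base change is tested on the generic linear form. -/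
theorem universallyOpen_tensor (hb : Submodule.span A (Set.range b) = ⊤) (R : Type u) [CommRing R] [Algebra A R]
    (h : IsOpen (PrimeSpectrum.comap (MvPolynomial.map (σ := Fin d) (algebraMap A R)) ⁻¹'
      (PrimeSpectrum.comap (MvPolynomial.map (σ := Fin d) (algebraMap A B)) ''
        (PrimeSpectrum.basicOpen (∑ i : Fin d, MvPolynomial.X i * MvPolynomial.C (b i)) : Set (PrimeSpectrum (MvPolynomial (Fin d) B)))))) :
    UniversallyOpen (Spec.map (CommRingCat.ofHom (Algebra.TensorProduct.includeLeftRingHom : R →+* R ⊗[A] B))) := by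
  classical
  let b' : Fin d → R ⊗[A] B := fun i => 1 ⊗ₜ b i
  have hb' : Submodule.span R (Set.range b') = ⊤ := by
    refine Submodule.eq_top_iff'.2 fun g => ?_
    induction g using TensorProduct.induction_on with
    | zero => exact Submodule.zero_mem _
    | tmul x y =>
      obtain ⟨a, ha⟩ := (Submodule.mem_span_range_iff_exists_fun A).1 (hb ▸ Submodule.mem_top : y ∈ Submodule.span A (Set.range b))
      rw [← ha, TensorProduct.tmul_sum]
      refine Submodule.sum_mem _ fun i _ => ?_
      rw [show x ⊗ₜ[A] (a i • b i) = (a i • x) • b' i by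
        show _ = (a i • x) • ((1 : R) ⊗ₜ[A] b i)
        rw [TensorProduct.smul_tmul', smul_eq_mul, mul_one, TensorProduct.smul_tmul]]
      exact Submodule.smul_mem _ _ (Submodule.subset_span ⟨i, rfl⟩)
    | add x y hx hy => exact Submodule.add_mem _ hx hy
  refine universallyOpen_of_isOpen (A := R) b' hb' ?_
  have H1 := isPullback_SpecMap_of_isPushout _ _ _ _
    (CommRingCat.isPushout_of_isPushout A B (MvPolynomial (Fin d) A) (MvPolynomial (Fin d) B))
  have H1' := isPullback_SpecMap_of_isPushout _ _ _ _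
    (CommRingCat.isPushout_of_isPushout R (R ⊗[A] B) (MvPolynomial (Fin d) R) (MvPolynomial (Fin d) (R ⊗[A] B)))
  have H2 := isPullback_SpecMap_of_isPushout _ _ _ _ (CommRingCat.isPushout_tensorProduct A R B).flip
  let Ψ : MvPolynomial (Fin d) B →+* MvPolynomial (Fin d) (R ⊗[A] B) :=
    MvPolynomial.map Algebra.TensorProduct.includeRight.toRingHom
  have hsq : Ψ.comp (MvPolynomial.map (algebraMap A B)) =
      (MvPolynomial.map (algebraMap R (R ⊗[A] B))).comp (MvPolynomial.map (σ := Fin d) (algebraMap A R)) := by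
    ext i <;> simp [Ψ, Algebra.TensorProduct.algebraMap_apply]
  have H : IsPullback (Spec.map (CommRingCat.ofHom Ψ))
      (Spec.map (CommRingCat.ofHom (MvPolynomial.map (σ := Fin d) (algebraMap R (R ⊗[A] B)))))
      (Spec.map (CommRingCat.ofHom (MvPolynomial.map (σ := Fin d) (algebraMap A B))))
      (Spec.map (CommRingCat.ofHom (MvPolynomial.map (σ := Fin d) (algebraMap A R)))) := by
    refine IsPullback.of_right (h₁₂ := Spec.map (CommRingCat.ofHom (algebraMap B (MvPolynomial (Fin d) B))))
      (h₂₂ := Spec.map (CommRingCat.ofHom (algebraMap A (MvPolynomial (Fin d) A))))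
      (v₁₃ := Spec.map (CommRingCat.ofHom (algebraMap A B))) ?_ ?_ ?_
    · have e1 : Spec.map (CommRingCat.ofHom Ψ) ≫ Spec.map (CommRingCat.ofHom (algebraMap B (MvPolynomial (Fin d) B))) =
          Spec.map (CommRingCat.ofHom (algebraMap (R ⊗[A] B) (MvPolynomial (Fin d) (R ⊗[A] B)))) ≫
            Spec.map (CommRingCat.ofHom (Algebra.TensorProduct.includeRight.toRingHom : B →+* R ⊗[A] B)) := by
        rw [← Spec.map_comp, ← Spec.map_comp, ← CommRingCat.ofHom_comp, ← CommRingCat.ofHom_comp]
        congr 2; ext x; simp [Ψ, MvPolynomial.algebraMap_eq]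
      have e2 : Spec.map (CommRingCat.ofHom (MvPolynomial.map (σ := Fin d) (algebraMap A R))) ≫
            Spec.map (CommRingCat.ofHom (algebraMap A (MvPolynomial (Fin d) A))) =
          Spec.map (CommRingCat.ofHom (algebraMap R (MvPolynomial (Fin d) R))) ≫
            Spec.map (CommRingCat.ofHom (algebraMap A R)) := by
        rw [← Spec.map_comp, ← Spec.map_comp, ← CommRingCat.ofHom_comp, ← CommRingCat.ofHom_comp]
        congr 2; ext x; simp [MvPolynomial.algebraMap_eq]
      rw [e1, e2]
      exact H1'.paste_horiz H2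
    · rw [← Spec.map_comp, ← Spec.map_comp, ← CommRingCat.ofHom_comp, ← CommRingCat.ofHom_comp, hsq]
    · exact H1
  have hΨ : Ψ (∑ i : Fin d, MvPolynomial.X i * MvPolynomial.C (b i)) = ∑ i : Fin d, MvPolynomial.X i * MvPolynomial.C (b' i) := by
    simp [Ψ, b']
  convert h using 1
  ext p
  constructor
  · rintro ⟨q, hq, rfl⟩
    refine ⟨PrimeSpectrum.comap Ψ q, ?_, ?_⟩
    · show Ψ _ ∉ q.asIdeal
      rw [hΨ]; exact hq
    · rw [← PrimeSpectrum.comap_comp_apply, hsq, PrimeSpectrum.comap_comp_apply]
  · rintro ⟨z, hz, hzp⟩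
    obtain ⟨q, hq1, hq2⟩ := Scheme.exists_preimage_of_isPullback H z p hzp
    refine ⟨q, ?_, hq2⟩
    show (∑ i : Fin d, MvPolynomial.X i * MvPolynomial.C (b' i)) ∉ q.asIdeal
    rw [← hΨ]
    intro hc
    apply hz
    rw [← hq1]
    exact hc

/-- Transfer of universal openness between two pullbacks. -/
theorem universallyOpen_of_factor {X S T T' P : Scheme.{u}} {f : X ⟶ S} {p : P ⟶ X} {g : P ⟶ T'}
    (l : T' ⟶ T) (s : T ⟶ S) (H : IsPullback p g f (l ≫ s)) (h : UniversallyOpen (pullback.snd f s)) :
    UniversallyOpen g := by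
  have h1 : IsPullback (pullback.lift p (g ≫ l) (by rw [H.w, Category.assoc])) g (pullback.snd f s) l :=
    IsPullback.of_right (by rw [pullback.lift_fst]; exact H) (pullback.lift_snd _ _ _) (IsPullback.of_hasPullback f s)
  exact MorphismProperty.of_isPullback h1 h

theorem universallyOpen_of_isPullback {X S T P : Scheme.{u}} {f : X ⟶ S} {p : P ⟶ X} {g : P ⟶ T}
    {s : T ⟶ S} (H : IsPullback p g f s) (h : UniversallyOpen (pullback.snd f s)) : UniversallyOpen g :=
  universallyOpen_of_factor (𝟙 T) s (by rw [Category.id_comp]; exact H) h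

/-- The openness test. -/
theorem exists_openness_test {U T : Scheme.{u}} (π : U ⟶ T) [IsFinite π] [LocallyOfFinitePresentation π] [IsAffine T] :
    ∃ (W : Scheme.{u}) (w : W ⟶ T) (E : Set W), IsAffine W ∧ Topology.IsConstructible E ∧
      (∀ {T' : Scheme.{u}} (s : T' ⟶ T), UniversallyOpen (pullback.snd π s) → IsOpen (pullback.fst w s ⁻¹' E)) ∧
      ∀ {T' : Scheme.{u}} [IsAffine T'] (s : T' ⟶ T), IsOpen (pullback.fst w s ⁻¹' E) → UniversallyOpen (pullback.snd π s) := by
  classical
  haveI : IsAffine U := isAffine_of_isAffineHom π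
  let eT := T.isoSpec
  let eU := U.isoSpec
  obtain ⟨φ, hφ⟩ : ∃ φ, Spec.map φ = eU.inv ≫ π ≫ eT.hom := Spec.map_surjective _
  letI : Algebra Γ(T, ⊤) Γ(U, ⊤) := φ.hom.toAlgebra
  haveI : Module.Finite Γ(T, ⊤) Γ(U, ⊤) := by
    haveI : IsFinite (Spec.map φ) := by rw [hφ]; infer_instance
    exact ((IsFinite.SpecMap_iff _).1 ‹_› : φ.hom.Finite)
  obtain ⟨d, b, hb⟩ := Module.Finite.exists_fin (R := Γ(T, ⊤)) (M := Γ(U, ⊤))
  have hπ : π = eU.hom ≫ Spec.map φ ≫ eT.inv := by rw [hφ]; simp
  let A := Γ(T, ⊤)
  let B := Γ(U, ⊤)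
  let mW := MvPolynomial.map (σ := Fin d) (algebraMap A B)
  let W := Spec (CommRingCat.of (MvPolynomial (Fin d) A))
  let w : W ⟶ T := Spec.map (CommRingCat.ofHom (algebraMap A (MvPolynomial (Fin d) A))) ≫ eT.inv
  let zW : Spec (CommRingCat.of (MvPolynomial (Fin d) B)) ⟶ W := Spec.map (CommRingCat.ofHom mW)
  let Dh : Set (PrimeSpectrum (MvPolynomial (Fin d) B)) :=
    (PrimeSpectrum.basicOpen (∑ i : Fin d, MvPolynomial.X i * MvPolynomial.C (b i)) :)
  have HW : IsPullback (Spec.map (CommRingCat.ofHom (algebraMap B (MvPolynomial (Fin d) B))) ≫ eU.inv) zW π w :=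
    (isPullback_SpecMap_of_isPushout _ _ _ _
      (CommRingCat.isPushout_of_isPushout A B (MvPolynomial (Fin d) A) (MvPolynomial (Fin d) B))).of_iso
      (Iso.refl _) eU.symm (Iso.refl _) eT.symm (by simp) (by simp [zW, mW])
      (by
        show Spec.map φ ≫ eT.inv = eU.inv ≫ π
        rw [hπ]; simp)
      (by simp [w])
  haveI : LocallyOfFinitePresentation zW := MorphismProperty.of_isPullback HW ‹LocallyOfFinitePresentation π›
  haveI : IsFinite zW := MorphismProperty.of_isPullback HW ‹IsFinite π›
  refine ⟨W, w, zW '' Dh, inferInstance, ?_, ?_, ?_⟩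
  · exact zW.isConstructible_image ((PrimeSpectrum.isCompact_basicOpen _).isConstructible (PrimeSpectrum.basicOpen _).2)
  · intro T' s hs
    have H := (IsPullback.of_hasPullback zW (pullback.fst w s)).paste_horiz HW
    rw [pullback.condition] at H
    haveI := universallyOpen_of_factor _ _ H hs
    have : pullback.fst w s ⁻¹' (zW '' Dh) = pullback.snd zW (pullback.fst w s) '' (pullback.fst zW (pullback.fst w s) ⁻¹' Dh) := by
      ext p
      constructor
      · rintro ⟨z, hz, hzp⟩
        obtain ⟨r, hr1, hr2⟩ := Scheme.Pullback.exists_preimage_pullback (f := zW) (g := pullback.fst w s) z p hzp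
        exact ⟨r, show _ ∈ Dh by rw [hr1]; exact hz, hr2⟩
      · rintro ⟨r, hr, rfl⟩
        exact ⟨_, hr, congrArg (fun m => m r) (pullback.condition (f := zW) (g := pullback.fst w s))⟩
    rw [this]
    exact (pullback.snd zW (pullback.fst w s)).isOpenMap _
      ((PrimeSpectrum.basicOpen _).2.preimage (pullback.fst zW (pullback.fst w s)).continuous)
  · intro T' _ s hs
    let e' := T'.isoSpec
    obtain ⟨a, ha⟩ : ∃ a, Spec.map a = e'.inv ≫ s ≫ eT.hom := Spec.map_surjective _
    letI : Algebra A Γ(T', ⊤) := a.hom.toAlgebra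
    let R := Γ(T', ⊤)
    let l : Spec (CommRingCat.of (MvPolynomial (Fin d) R)) ⟶ pullback w s :=
      pullback.lift (Spec.map (CommRingCat.ofHom (MvPolynomial.map (σ := Fin d) (algebraMap A R))))
        (Spec.map (CommRingCat.ofHom (algebraMap R (MvPolynomial (Fin d) R))) ≫ e'.inv) (by
          simp only [w, Category.assoc]
          rw [show e'.inv ≫ s = Spec.map a ≫ eT.inv by rw [ha]; simp, ← Category.assoc, ← Category.assoc,
            ← Spec.map_comp, ← Spec.map_comp]
          congr 2
          ext x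
          simp [MvPolynomial.algebraMap_eq]
          rfl)
    have hopen : IsOpen (PrimeSpectrum.comap (MvPolynomial.map (σ := Fin d) (algebraMap A R)) ⁻¹' (zW '' Dh)) := by
      have := hs.preimage l.continuous
      rw [← Set.preimage_comp] at this
      have e : (⇑(pullback.fst w s) ∘ ⇑l) = PrimeSpectrum.comap (MvPolynomial.map (σ := Fin d) (algebraMap A R)) := by
        funext x
        show (l ≫ pullback.fst w s) x = _
        rw [pullback.lift_fst]
        rfl
      rw [e] at this
      exact this
    have hR := universallyOpen_tensor b hb R hopen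
    have H : IsPullback (Spec.map (CommRingCat.ofHom (Algebra.TensorProduct.includeRight.toRingHom : B →+* R ⊗[A] B)) ≫ eU.inv)
        (Spec.map (CommRingCat.ofHom (Algebra.TensorProduct.includeLeftRingHom : R →+* R ⊗[A] B)) ≫ e'.inv) π s :=
      (isPullback_SpecMap_of_isPushout _ _ _ _ (CommRingCat.isPushout_tensorProduct A R B).flip).of_iso
        (Iso.refl _) eU.symm e'.symm eT.symm (by simp) (by simp)
        (by
          show Spec.map φ ≫ eT.inv = eU.inv ≫ π
          rw [hπ]; simp)
        (by
          show Spec.map a ≫ eT.inv = e'.inv ≫ s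
          rw [ha]; simp)
    rw [← H.isoPullback_inv_snd]
    infer_instance

end Groth.Agent.UnivOpenFin4
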